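import Mathlib.AlgebraicGeometry.EllipticCurve.Affine.Point
import Mathlib.RingTheory.Valuation.Basic
import Mathlib.Tactic

/-! The points of non-singular reduction of a curve reducing to `y² = x³` have no non-trivial
torsion prime to the residue characteristic. -/

universe u

namespace Groth.Agent.EllTors

open WeierstrassCurve

variable {K : Type u} [Field K] {Γ : Type*} [LinearOrderedCommGroupWithZero Γ]
  (v : Valuation K Γ) (W : WeierstrassCurve K)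

/-- All coefficients have positive valuation. -/
structure Cusp : Prop where
  a₁ : v W.a₁ < 1
  a₂ : v W.a₂ < 1
  a₃ : v W.a₃ < 1
  a₄ : v W.a₄ < 1
  a₆ : v W.a₆ < 1

/-- The affine point has non-singular reduction. -/
def Good (x y : K) : Prop := y ≠ 0 ∧ v (x / y) ≤ 1 ∧ v (1 / y) ≤ 1

variable {v W}

lemma nat_le_one (n : ℕ) : v (n : K) ≤ 1 := by
  induction n with
  | zero => simp
  | succ n ih => push_cast; exact v.map_add_le ih (by simp)

lemma mul_small {a x : K} {M : Γ} (hM : 0 < M) (ha : v a < 1) (hx : v x ≤ M) :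
    v (a * x) < M := by
  rcases eq_or_ne x 0 with rfl | hx0
  · simpa using hM
  rw [map_mul]
  calc v a * v x < 1 * v x :=
        mul_lt_mul_of_pos_right ha (zero_lt_iff.2 ((v.ne_zero_iff).2 hx0))
    _ = v x := one_mul _
    _ ≤ M := hx

lemma mul_le' {a x : K} {M : Γ} (ha : v a ≤ 1) (hx : v x ≤ M) : v (a * x) ≤ M := by
  rw [map_mul]; exact (mul_le_of_le_one_left' ha).trans hx

lemma add_small {x y : K} {M : Γ} (hx : v x < M) (hy : v y < M) : v (x + y) < M :=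
  v.map_add_lt hx hy

lemma neg_small {x : K} {M : Γ} (hx : v x < M) : v (-x) < M := by rwa [v.map_neg]

lemma unit_one_add {z : K} (hz : v z < 1) : v (1 + z) = 1 ∧ (1 + z) ≠ 0 := by
  have h := v.map_one_add_of_lt hz
  exact ⟨h, fun h0 => by simp [h0] at h⟩

variable (hW : Cusp v W)

include hW in
lemma unit_w {t s : K} (ht : v t ≤ 1) (hs : v s ≤ 1) :
    v (W.a₁ * t + W.a₃ * s + W.a₂ * (-t ^ 2) + W.a₄ * (-(t * s)) + W.a₆ * (-s ^ 2)) < 1 := by
  have h1 : (0 : Γ) < 1 := zero_lt_one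
  refine add_small (add_small (add_small (add_small (mul_small h1 hW.a₁ ht)
    (mul_small h1 hW.a₃ hs)) (mul_small h1 hW.a₂ ?_)) (mul_small h1 hW.a₄ ?_))
    (mul_small h1 hW.a₆ ?_)
  · rw [v.map_neg, pow_two]; exact mul_le' ht ht
  · rw [v.map_neg]; exact mul_le' ht hs
  · rw [v.map_neg, pow_two]; exact mul_le' hs hs

/-- The equation in the chart at infinity. -/
lemma curve_ts {x y : K} (hy : y ≠ 0) (h : W.toAffine.Equation x y) :
    1 / y + W.a₁ * (x / y) * (1 / y) + W.a₃ * (1 / y) ^ 2 =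
      (x / y) ^ 3 + W.a₂ * (x / y) ^ 2 * (1 / y) + W.a₄ * (x / y) * (1 / y) ^ 2
        + W.a₆ * (1 / y) ^ 3 := by
  rw [Affine.equation_iff] at h
  field_simp
  linear_combination h

include hW in
lemma good_facts {x y : K} (h : W.toAffine.Equation x y) (hg : Good v x y) {M : Γ}
    (hM1 : M ≤ 1) (ht : v (x / y) ≤ M) : x ≠ 0 ∧ v (1 / y) ≤ M := by
  obtain ⟨hy, htt, hs⟩ := hg
  have hz := unit_one_add (unit_w hW htt hs)
  have e := curve_ts hy h
  have e' : 1 / y * (1 + (W.a₁ * (x / y) + W.a₃ * (1 / y) + W.a₂ * (-(x / y) ^ 2)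
      + W.a₄ * (-((x / y) * (1 / y))) + W.a₆ * (-(1 / y) ^ 2))) = (x / y) ^ 3 := by
    linear_combination e
  constructor
  · intro hx
    rw [hx] at e' hz
    simp only [zero_div, ne_eq, OfNat.ofNat_ne_zero, not_false_eq_true, zero_pow] at e' hz
    exact one_div_ne_zero hy ((mul_eq_zero.1 e').resolve_right hz.2)
  · have := congrArg v e'
    rw [map_mul, hz.1, mul_one] at this
    rw [this, show (x / y) ^ 3 = (x / y) ^ 2 * (x / y) by ring]
    refine mul_le' ?_ ht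
    rw [map_pow]; exact pow_le_one' htt 2

include hW in
/-- A point with singular reduction has coordinates of positive valuation. -/
lemma coords_small_of_not_good {x y : K} (h : W.toAffine.Equation x y) (hg : ¬ Good v x y) :
    v x < 1 ∧ v y < 1 := by
  have h1 : (0 : Γ) < 1 := zero_lt_one
  have he := (Affine.equation_iff ..).1 h
  have key : v y < 1 := by
    by_contra hy1
    rw [not_lt] at hy1
    have hy : y ≠ 0 := fun h => by simp [h] at hy1
    have hs : v (1 / y) ≤ 1 := by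
      rw [one_div, map_inv₀]; exact inv_le_one_of_one_le₀ hy1
    have ht : 1 < v (x / y) := by
      by_contra ht; exact hg ⟨hy, not_lt.1 ht, hs⟩
    have hx : x ≠ 0 := fun h => by simp [h] at ht
    have hq : v (y / x) < 1 := by
      rw [show y / x = (x / y)⁻¹ by rw [inv_div], map_inv₀]
      exact inv_lt_one_of_one_lt₀ ht
    -- divide the equation by `x ^ 3`
    have e : 1 + (W.a₂ * ((1 / y) * (y / x)) + W.a₄ * ((1 / y) * (y / x)) ^ 2
        + W.a₆ * ((1 / y) * (y / x)) ^ 3 + W.a₁ * (-((1 / y) * (y / x) * (y / x)))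
        + W.a₃ * (-((1 / y) * (y / x) * (y / x) * ((1 / y) * (y / x))))
        + (y / x) * (-((y / x) * (y / x) * (1 / y)))) = 0 := by
      field_simp
      linear_combination -he
    have hsq : v ((1 / y) * (y / x)) ≤ 1 := mul_le' hs hq.le
    refine (unit_one_add (v := v) ?_).2 e
    refine add_small (add_small (add_small (add_small (add_small (mul_small h1 hW.a₂ hsq)
      (mul_small h1 hW.a₄ ?_)) (mul_small h1 hW.a₆ ?_)) (mul_small h1 hW.a₁ ?_))
      (mul_small h1 hW.a₃ ?_)) (mul_small h1 hq ?_)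
    · rw [map_pow]; exact pow_le_one' hsq 2
    · rw [map_pow]; exact pow_le_one' hsq 3
    · rw [v.map_neg]; exact mul_le' hsq hq.le
    · rw [v.map_neg]; exact mul_le' (mul_le' hsq hq.le) hsq
    · rw [v.map_neg]; exact mul_le' (mul_le' hq.le hq.le) hs
  refine ⟨?_, key⟩
  by_contra hx1
  rw [not_lt] at hx1
  have hx : x ≠ 0 := fun h => by simp [h] at hx1
  have hi : v (1 / x) ≤ 1 := by rw [one_div, map_inv₀]; exact inv_le_one_of_one_le₀ hx1
  have e : 1 + (W.a₂ * (1 / x) + W.a₄ * (1 / x) ^ 2 + W.a₆ * (1 / x) ^ 3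
      + y * (-(y * (1 / x) ^ 3)) + W.a₁ * (-(y * (1 / x) ^ 2))
      + W.a₃ * (-(y * (1 / x) ^ 3))) = 0 := by
    field_simp
    linear_combination -he
  have hp : ∀ n, v ((1 / x) ^ n) ≤ 1 := fun n => by rw [map_pow]; exact pow_le_one' hi n
  refine (unit_one_add (v := v) ?_).2 e
  refine add_small (add_small (add_small (add_small (add_small (mul_small h1 hW.a₂ hi)
    (mul_small h1 hW.a₄ (hp 2))) (mul_small h1 hW.a₆ (hp 3))) (mul_small h1 key ?_))
    (mul_small h1 hW.a₁ ?_)) (mul_small h1 hW.a₃ ?_)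
  all_goals rw [v.map_neg]; exact mul_le' key.le (hp _)

/-- The algebraic core: the third intersection of a line with the curve. -/
lemma third_point {x₁ x₂ x₃ y₁ y₂ y₃ l ν al be : K}
    (h₁ : y₁ = l * x₁ + ν) (h₂ : y₂ = l * x₂ + ν) (h₃ : y₃ = l * x₃ + ν)
    (e1 : x₁ + x₂ + x₃ = l ^ 2 + W.a₁ * l - W.a₂)
    (e2 : x₁ * x₂ + x₁ * x₃ + x₂ * x₃ = W.a₄ - 2 * l * ν - W.a₁ * ν - W.a₃ * l)
    (e3 : x₁ * x₂ * x₃ = ν ^ 2 + W.a₃ * ν - W.a₆)
    (hb : be * ν = 1) (ha : al = -(be * l)) (hy1 : y₁ ≠ 0) (hy2 : y₂ ≠ 0)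
    (hc : 1 + W.a₂ * al + W.a₄ * al ^ 2 + W.a₆ * al ^ 3 ≠ 0) :
    y₃ ≠ 0 ∧ x₃ / y₃ = -(x₁ / y₁) - x₂ / y₂ -
      (W.a₁ * (-al) + W.a₂ * be + W.a₃ * (-al ^ 2) + W.a₄ * (2 * al * be)
        + W.a₆ * (3 * al ^ 2 * be)) / (1 + W.a₂ * al + W.a₄ * al ^ 2 + W.a₆ * al ^ 3) ∧
      1 / y₃ = al * (x₃ / y₃) + be := by
  have hν : ν ≠ 0 := fun h => by simp [h] at hb
  have hbe : be = 1 / ν := by field_simp; linear_combination hb
  subst ha; subst hbe
  set c3 := 1 + W.a₂ * -(1 / ν * l) + W.a₄ * (-(1 / ν * l)) ^ 2 + W.a₆ * (-(1 / ν * l)) ^ 3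
    with hc3
  set c2 := W.a₁ * (- -(1 / ν * l)) + W.a₂ * (1 / ν) + W.a₃ * (-(-(1 / ν * l)) ^ 2) +
    W.a₄ * (2 * -(1 / ν * l) * (1 / ν)) + W.a₆ * (3 * (-(1 / ν * l)) ^ 2 * (1 / ν)) with hc2
  have P : y₁ * y₂ * y₃ = ν ^ 3 * c3 := by
    have : ν ^ 3 * c3 = ν ^ 3 - W.a₂ * l * ν ^ 2 + W.a₄ * l ^ 2 * ν - W.a₆ * l ^ 3 := by
      rw [hc3]; field_simp; ring
    rw [this, h₁, h₂, h₃]
    linear_combination l ^ 3 * e3 + l ^ 2 * ν * e2 + l * ν ^ 2 * e1
  have S : x₁ * y₂ * y₃ + x₂ * y₁ * y₃ + x₃ * y₁ * y₂ = -(ν ^ 3 * c2) := by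
    have : ν ^ 3 * c2 = W.a₁ * l * ν ^ 2 + W.a₂ * ν ^ 2 - W.a₃ * l ^ 2 * ν
        - 2 * W.a₄ * l * ν + 3 * W.a₆ * l ^ 2 := by
      rw [hc2]; field_simp; ring
    rw [this, h₁, h₂, h₃]
    linear_combination 3 * l ^ 2 * e3 + 2 * l * ν * e2 + ν ^ 2 * e1
  have hy3 : y₃ ≠ 0 := fun h => by
    rw [h, mul_zero] at P
    exact mul_ne_zero (pow_ne_zero 3 hν) hc P.symm
  refine ⟨hy3, ?_, ?_⟩
  · have : x₁ / y₁ + x₂ / y₂ + x₃ / y₃ = -(c2 / c3) := by
      rw [show x₁ / y₁ + x₂ / y₂ + x₃ / y₃ =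
        (x₁ * y₂ * y₃ + x₂ * y₁ * y₃ + x₃ * y₁ * y₂) / (y₁ * y₂ * y₃) by field_simp,
        P, S, neg_div, mul_div_mul_left _ _ (pow_ne_zero 3 hν)]
    linear_combination this
  · field_simp
    linear_combination -h₃

variable [DecidableEq K]

lemma vieta {x₁ x₂ y₁ y₂ : K} (h₁ : W.toAffine.Equation x₁ y₁) (h₂ : W.toAffine.Equation x₂ y₂)
    (hxy : ¬(x₁ = x₂ ∧ y₁ = W.toAffine.negY x₂ y₂)) :
    let l := W.toAffine.slope x₁ x₂ y₁ y₂
    let x₃ := W.toAffine.addX x₁ x₂ l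
    let ν := y₁ - l * x₁
    x₁ + x₂ + x₃ = l ^ 2 + W.a₁ * l - W.a₂ ∧
    x₁ * x₂ + x₁ * x₃ + x₂ * x₃ = W.a₄ - 2 * l * ν - W.a₁ * ν - W.a₃ * l ∧
    x₁ * x₂ * x₃ = ν ^ 2 + W.a₃ * ν - W.a₆ := by
  intro l x₃ ν
  have h := Affine.addPolynomial_slope h₁ h₂ hxy
  rw [Affine.addPolynomial_eq] at h
  have h0 := congrArg (Polynomial.eval 0) h
  have h1 := congrArg (Polynomial.eval 1) h
  simp [Cubic.toPoly] at h0 h1
  have e1 : x₁ + x₂ + x₃ = l ^ 2 + W.a₁ * l - W.a₂ := by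
    simp only [x₃, Affine.addX]; ring
  have e3 : x₁ * x₂ * x₃ = ν ^ 2 + W.a₃ * ν - W.a₆ := by
    simp only [x₃, ν, l, Affine.addX] at *
    linear_combination -h0
  refine ⟨e1, ?_, e3⟩
  simp only [x₃, ν, l, Affine.addX] at *
  linear_combination h1 + e3 + e1

variable (v W) in
/-- The parameter `-x/y` up to sign. -/
def par : W.toAffine.Point → K
  | .zero => 0
  | .some x y _ => x / y

variable (v W) in
/-- The point has non-singular reduction. -/
def GoodPt : W.toAffine.Point → Prop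
  | .zero => True
  | .some x y _ => Good v x y

include hW in
lemma step_some {x₁ x₂ y₁ y₂ : K} {h₁ : W.toAffine.Nonsingular x₁ y₁}
    {h₂ : W.toAffine.Nonsingular x₂ y₂} (g₁ : Good v x₁ y₁) (g₂ : Good v x₂ y₂) {M : Γ}
    (hM0 : 0 < M) (hM1 : M ≤ 1) (ht₁ : v (x₁ / y₁) ≤ M) (ht₂ : v (x₂ / y₂) ≤ M) :
    GoodPt v W (.some _ _ h₁ + .some _ _ h₂) ∧
      v (par W (.some _ _ h₁ + .some _ _ h₂) - x₁ / y₁ - x₂ / y₂) < M := by
  obtain ⟨-, hs₁⟩ := good_facts hW h₁.left g₁ hM1 ht₁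
  obtain ⟨-, hs₂⟩ := good_facts hW h₂.left g₂ hM1 ht₂
  have E₁ := curve_ts g₁.1 h₁.left
  have E₂ := curve_ts g₂.1 h₂.left
  have hy1 := g₁.1
  have hy2 := g₂.1
  by_cases hxy : x₁ = x₂ ∧ y₁ = W.toAffine.negY x₂ y₂
  · rw [Affine.Point.add_of_Y_eq hxy.1 hxy.2]
    refine ⟨trivial, ?_⟩
    show v (0 - x₁ / y₁ - x₂ / y₂) < M
    have hz : v (W.a₁ * (x₂ / y₂) + W.a₃ * (1 / y₂)) < 1 :=
      add_small (mul_small zero_lt_one hW.a₁ g₂.2.1) (mul_small zero_lt_one hW.a₃ g₂.2.2)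
    obtain ⟨hu, hu0⟩ := unit_one_add hz
    have hy : y₁ = -(y₂ * (1 + (W.a₁ * (x₂ / y₂) + W.a₃ * (1 / y₂)))) := by
      rw [hxy.2, Affine.negY]; field_simp; ring
    have : (1 + (W.a₁ * (x₂ / y₂) + W.a₃ * (1 / y₂))) * (0 - x₁ / y₁ - x₂ / y₂) =
        (W.a₁ * (x₂ / y₂) + W.a₃ * (1 / y₂)) * (-(x₂ / y₂)) := by
      generalize W.a₁ * (x₂ / y₂) + W.a₃ * (1 / y₂) = z at hy hu0 ⊢
      rw [hy, hxy.1]; field_simp; ring
    have := congrArg v this
    rw [map_mul, hu, one_mul] at this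
    rw [this]
    exact mul_small hM0 hz (by rw [v.map_neg]; exact ht₂)
  set t₁ := x₁ / y₁ with ht₁d
  set s₁ := 1 / y₁ with hs₁d
  set t₂ := x₂ / y₂ with ht₂d
  set s₂ := 1 / y₂ with hs₂d
  obtain ⟨-, hT₁, hS₁⟩ := g₁
  obtain ⟨-, hT₂, hS₂⟩ := g₂
  rw [← ht₁d] at hT₁; rw [← hs₁d] at hS₁; rw [← ht₂d] at hT₂; rw [← hs₂d] at hS₂
  set N := t₁ * t₁ + t₁ * t₂ + t₂ * t₂ + W.a₁ * (-s₂) + W.a₂ * ((t₁ + t₂) * s₂)
    + W.a₄ * (s₂ * s₂) with hN
  set z := W.a₁ * t₁ + W.a₂ * (-(t₁ * t₁)) + W.a₃ * (s₁ + s₂) + W.a₄ * (-(t₁ * (s₁ + s₂)))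
    + W.a₆ * (-(s₁ * s₁ + s₁ * s₂ + s₂ * s₂)) with hzd
  have hs12 : v (s₁ + s₂) ≤ 1 := v.map_add_le hS₁ hS₂
  have hz : v z < 1 := by
    have h1 : (0 : Γ) < 1 := zero_lt_one
    refine add_small (add_small (add_small (add_small (mul_small h1 hW.a₁ hT₁)
      (mul_small h1 hW.a₂ ?_)) (mul_small h1 hW.a₃ hs12)) (mul_small h1 hW.a₄ ?_))
      (mul_small h1 hW.a₆ ?_)
    · rw [v.map_neg]; exact mul_le' hT₁ hT₁
    · rw [v.map_neg]; exact mul_le' hT₁ hs12
    · rw [v.map_neg]; exact v.map_add_le (v.map_add_le (mul_le' hS₁ hS₁) (mul_le' hS₁ hS₂))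
        (mul_le' hS₂ hS₂)
  obtain ⟨hD, hD0⟩ := unit_one_add hz
  have key : (1 + z) * (s₂ - s₁) = N * (t₂ - t₁) := by
    rw [hzd, hN]; linear_combination E₂ - E₁
  set al := N / (1 + z) with hald
  have hNM : v N ≤ M := by
    refine v.map_add_le (v.map_add_le (v.map_add_le (v.map_add_le (v.map_add_le ?_ ?_) ?_)
      ?_) ?_) ?_
    · exact mul_le' hT₁ ht₁
    · exact mul_le' hT₁ ht₂
    · exact mul_le' hT₂ ht₂
    · exact (mul_small hM0 hW.a₁ (by rw [v.map_neg]; exact hs₂)).le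
    · exact (mul_small hM0 hW.a₂ (mul_le' (v.map_add_le hT₁ hT₂) hs₂)).le
    · exact (mul_small hM0 hW.a₄ (mul_le' hS₂ hs₂)).le
  have hal : v al ≤ M := by rw [hald, map_div₀, hD, div_one]; exact hNM
  set be := s₁ - al * t₁ with hbed
  have hal1 : v al ≤ 1 := hal.trans hM1
  have hbe : v be ≤ M := v.map_sub_le hs₁ (mul_le' hal1 ht₁)
  set l := W.toAffine.slope x₁ x₂ y₁ y₂ with hl
  set ν := y₁ - l * x₁ with hν
  have l1 : al * x₁ + be * y₁ = 1 := by
    rw [hbed, ht₁d, hs₁d]; field_simp; ring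
  have line : y₂ = l * x₂ + ν ∧ al + be * l = 0 := by
    by_cases hx : x₁ = x₂
    · have hy : y₁ ≠ W.toAffine.negY x₂ y₂ := fun h => hxy ⟨hx, h⟩
      have hyy : y₁ = y₂ := Affine.Y_eq_of_Y_ne h₁.left h₂.left hx hy
      refine ⟨by rw [hν, ← hx, ← hyy]; ring, ?_⟩
      have hx21 : x₂ = x₁ := hx.symm
      have hy21 : y₂ = y₁ := hyy.symm
      have hl' : l * (y₁ - W.toAffine.negY x₁ y₁) =
          3 * x₁ ^ 2 + 2 * W.a₂ * x₁ + W.a₄ - W.a₁ * y₁ := by
        rw [hl, Affine.slope_of_Y_ne hx hy, div_mul_cancel₀]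
        rw [sub_ne_zero]
        rw [hx21, hy21] at hy
        exact hy
      have hNy : N * y₁ ^ 2 = 3 * x₁ ^ 2 + 2 * W.a₂ * x₁ + W.a₄ - W.a₁ * y₁ := by
        rw [hN, ht₁d, ht₂d, hs₂d, hx21, hy21]; field_simp; ring
      have hDy : (1 + z) * y₁ ^ 2 = y₁ ^ 2 + W.a₁ * x₁ * y₁ - W.a₂ * x₁ ^ 2
          + 2 * W.a₃ * y₁ - 2 * W.a₄ * x₁ - 3 * W.a₆ := by
        rw [hzd, ht₁d, hs₁d, hs₂d, hy21]; field_simp; ring
      have halN : al * (1 + z) = N := by rw [hald, div_mul_cancel₀ _ hD0]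
      have he := (Affine.equation_iff ..).1 h₁.left
      have hden : y₁ - W.toAffine.negY x₁ y₁ ≠ 0 := by
        rw [sub_ne_zero]; rw [hx21, hy21] at hy; exact hy
      have hprod : (1 + z) * y₁ ^ 2 * (y₁ - W.toAffine.negY x₁ y₁) * (al * y₁ + l * (1 - al * x₁))
          = 0 := by
        have : al * ((1 + z) * y₁ ^ 2) = N * y₁ ^ 2 := by linear_combination y₁ ^ 2 * halN
        rw [hDy, hNy] at this
        rw [hDy]
        simp only [Affine.negY] at hl' ⊢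
        linear_combination
          (y₁ * (2 * y₁ + W.a₁ * x₁ + W.a₃) - x₁ * (3 * x₁ ^ 2 + 2 * W.a₂ * x₁ + W.a₄ - W.a₁ * y₁))
            * this + (y₁ ^ 2 + W.a₁ * x₁ * y₁ - W.a₂ * x₁ ^ 2 + 2 * W.a₃ * y₁ - 2 * W.a₄ * x₁
            - 3 * W.a₆) * (1 - al * x₁) * hl'
            + 3 * (3 * x₁ ^ 2 + 2 * W.a₂ * x₁ + W.a₄ - W.a₁ * y₁) * he
      have h0 := (mul_eq_zero.1 hprod).resolve_left
        (mul_ne_zero (mul_ne_zero hD0 (pow_ne_zero 2 hy1)) hden)
      refine (mul_eq_zero.1 (?_ : (al + be * l) * y₁ = 0)).resolve_right hy1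
      linear_combination h0 + l * l1
    · have hd : x₁ - x₂ ≠ 0 := sub_ne_zero.2 hx
      have hl' : l * (x₁ - x₂) = y₁ - y₂ := by
        rw [hl, Affine.slope_of_X_ne hx, div_mul_cancel₀ _ hd]
      refine ⟨by rw [hν]; linear_combination hl', ?_⟩
      have hdiff : s₂ - s₁ = al * (t₂ - t₁) := by
        rw [hald, div_mul_eq_mul_div, eq_div_iff hD0]; linear_combination key
      have hx2 : t₂ * y₂ = x₂ := by rw [ht₂d]; field_simp
      have hs2 : s₂ * y₂ = 1 := by rw [hs₂d]; field_simp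
      have l2 : al * x₂ + be * y₂ = 1 := by
        rw [hbed]; linear_combination hs2 - al * hx2 - y₂ * hdiff
      refine (mul_eq_zero.1 (?_ : (al + be * l) * (x₁ - x₂) = 0)).resolve_right hd
      linear_combination l1 - l2 + be * hl'
  obtain ⟨hl2, hab⟩ := line
  have hbν : be * ν = 1 := by rw [hν]; linear_combination l1 - x₁ * hab
  obtain ⟨e1, e2, e3⟩ := vieta h₁.left h₂.left hxy
  have hc3 : v (W.a₂ * al + W.a₄ * al ^ 2 + W.a₆ * al ^ 3) < 1 := by
    refine add_small (add_small (mul_small zero_lt_one hW.a₂ hal1)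
      (mul_small zero_lt_one hW.a₄ ?_)) (mul_small zero_lt_one hW.a₆ ?_)
    all_goals rw [map_pow]; exact pow_le_one' hal1 _
  obtain ⟨hcv, hc0⟩ := unit_one_add hc3
  rw [show (1 : K) + (W.a₂ * al + W.a₄ * al ^ 2 + W.a₆ * al ^ 3) =
      1 + W.a₂ * al + W.a₄ * al ^ 2 + W.a₆ * al ^ 3 by ring] at hcv hc0
  obtain ⟨hy3, hT3, hS3⟩ := third_point (W := W)
    (y₃ := W.toAffine.negAddY x₁ x₂ y₁ l) (ν := ν)
    (by rw [hν]; ring) hl2 (by rw [hν, Affine.negAddY, Affine.addX]; ring) e1 e2 e3 hbν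
    (by linear_combination hab) hy1 hy2 hc0
  set x₃ := W.toAffine.addX x₁ x₂ l with hx₃
  set y₃ := W.toAffine.negAddY x₁ x₂ y₁ l with hy₃
  set c2 := W.a₁ * (-al) + W.a₂ * be + W.a₃ * (-al ^ 2) + W.a₄ * (2 * al * be)
    + W.a₆ * (3 * al ^ 2 * be) with hc2d
  have h2 : v (2 : K) ≤ 1 := by exact_mod_cast nat_le_one 2
  have h3 : v (3 : K) ≤ 1 := by exact_mod_cast nat_le_one 3
  have hal2 : v (al ^ 2) ≤ M := by rw [pow_two]; exact mul_le' hal1 hal
  have hc2 : v (c2 / (1 + W.a₂ * al + W.a₄ * al ^ 2 + W.a₆ * al ^ 3)) < M := by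
    rw [map_div₀, hcv, div_one]
    refine add_small (add_small (add_small (add_small
      (mul_small hM0 hW.a₁ (by rwa [v.map_neg])) (mul_small hM0 hW.a₂ hbe))
      (mul_small hM0 hW.a₃ (by rwa [v.map_neg]))) (mul_small hM0 hW.a₄ ?_))
      (mul_small hM0 hW.a₆ ?_)
    · exact mul_le' (mul_le' h2 hal1) hbe
    · exact mul_le' (mul_le' h3 (hal2.trans hM1)) hbe
  have ht3 : v (x₃ / y₃) ≤ M := by
    rw [hT3]
    exact v.map_sub_le (v.map_sub_le (by rwa [v.map_neg]) ht₂) hc2.le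
  have hs3 : v (1 / y₃) ≤ M := by
    rw [hS3]; exact v.map_add_le (mul_le' hal1 ht3) hbe
  have hzz : v (W.a₁ * (x₃ / y₃) + W.a₃ * (1 / y₃)) < 1 :=
    add_small (mul_small zero_lt_one hW.a₁ (ht3.trans hM1))
      (mul_small zero_lt_one hW.a₃ (hs3.trans hM1))
  obtain ⟨hu, hu0⟩ := unit_one_add hzz
  have hY : W.toAffine.addY x₁ x₂ y₁ l =
      -(y₃ * (1 + (W.a₁ * (x₃ / y₃) + W.a₃ * (1 / y₃)))) := by
    rw [Affine.addY, ← hx₃, ← hy₃, Affine.negY]; field_simp; ring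
  rw [Affine.Point.add_some hxy]
  show Good v x₃ (W.toAffine.addY x₁ x₂ y₁ l) ∧
    v (x₃ / W.toAffine.addY x₁ x₂ y₁ l - t₁ - t₂) < M
  rw [hY]
  generalize hzg : W.a₁ * (x₃ / y₃) + W.a₃ * (1 / y₃) = z' at hzz hu hu0
  refine ⟨⟨neg_ne_zero.2 (mul_ne_zero hy3 hu0), ?_, ?_⟩, ?_⟩
  · rw [div_neg, v.map_neg, ← div_div, map_div₀, hu, div_one]; exact ht3.trans hM1
  · rw [div_neg, v.map_neg, ← div_div, map_div₀, hu, div_one]; exact hs3.trans hM1
  · have e : (1 + z') * (x₃ / -(y₃ * (1 + z')) - t₁ - t₂) =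
        z' * (-t₁ - t₂) + c2 / (1 + W.a₂ * al + W.a₄ * al ^ 2 + W.a₆ * al ^ 3) := by
      rw [div_neg, ← div_div]
      have : (1 + z') * (x₃ / y₃ / (1 + z')) = x₃ / y₃ := by field_simp
      linear_combination -this - hT3
    have := congrArg v e
    rw [map_mul, hu, one_mul] at this
    rw [this]
    exact add_small (mul_small hM0 hzz (v.map_sub_le (by rwa [v.map_neg]) ht₂)) hc2

include hW in
/-- Non-singularly reducing points have no torsion prime to the residue characteristic. -/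
theorem not_good_of_nsmul_eq_zero {x y : K} (h : W.toAffine.Nonsingular x y) {n : ℕ}
    (hn : v (n : K) = 1) (hP : n • (Affine.Point.some _ _ h) = 0) : ¬ Good v x y := by
  intro hg
  set P : W.toAffine.Point := .some _ _ h
  set M := v (x / y) with hM
  have hM1 : M ≤ 1 := hg.2.1
  have hx : x ≠ 0 := (good_facts hW h.left hg hM1 le_rfl).1
  have hM0 : 0 < M := zero_lt_iff.2 ((v.ne_zero_iff).2 (div_ne_zero hx hg.1))
  have claim : ∀ j : ℕ, GoodPt v W (j • P) ∧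
      v (par W (j • P) - (j : K) * (x / y)) < M := by
    intro j
    induction j with
    | zero =>
      rw [zero_smul]
      refine ⟨trivial, ?_⟩
      show v (0 - (0 : ℕ) * (x / y)) < M
      simpa using hM0
    | succ j ih =>
      rw [succ_nsmul]
      obtain ⟨hgj, hdj⟩ := ih
      rcases hjP : j • P with _ | ⟨x', y', h'⟩
      · rw [hjP] at hdj
        rw [← Affine.Point.zero_def, zero_add]
        refine ⟨hg, ?_⟩
        show v (x / y - ((j + 1 : ℕ) : K) * (x / y)) < M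
        change v (0 - (j : K) * (x / y)) < M at hdj
        convert hdj using 2
        push_cast; ring
      · rw [hjP] at hgj hdj
        change v (x' / y' - (j : K) * (x / y)) < M at hdj
        have ht' : v (x' / y') ≤ M := by
          have := v.map_add_le (g := M) hdj.le (mul_le' (nat_le_one j) (le_refl M) :
            v ((j : K) * (x / y)) ≤ M)
          simpa using this
        obtain ⟨hG, hd⟩ := step_some hW (h₁ := h') (h₂ := h) hgj hg hM0 hM1 ht' le_rfl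
        refine ⟨hG, ?_⟩
        have := add_small hd hdj
        convert this using 2
        push_cast; ring
  have := (claim n).2
  rw [hP] at this
  change v (0 - (n : K) * (x / y)) < M at this
  rw [zero_sub, v.map_neg, map_mul, hn, one_mul] at this
  exact lt_irrefl _ this

end Groth.Agent.EllTors
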