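import Mathlib.AlgebraicGeometry.EllipticCurve.Affine.Point
import Mathlib.AlgebraicGeometry.EllipticCurve.VariableChange
import Mathlib.Tactic

/-! Changes of variables with `u = 1` act additively on points of elliptic curves, and the
normal form of a cuspidal cubic over an algebraically closed field. -/

universe u

namespace Groth.Agent.EllTors

open WeierstrassCurve

variable {K : Type u} [Field K]

/-- The variable change with `u = 1`. -/
def ch {K : Type u} [CommRing K] (r s t : K) : VariableChange K := ⟨1, r, s, t⟩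

variable (W : WeierstrassCurve K) (r s t : K)

lemma ch_a₁ : (ch r s t • W).a₁ = W.a₁ + 2 * s := by
  simp [ch, variableChange_a₁]

lemma ch_a₂ : (ch r s t • W).a₂ = W.a₂ - s * W.a₁ + 3 * r - s ^ 2 := by
  simp [ch, variableChange_a₂]

lemma ch_a₃ : (ch r s t • W).a₃ = W.a₃ + r * W.a₁ + 2 * t := by
  simp [ch, variableChange_a₃]

lemma ch_a₄ : (ch r s t • W).a₄ =
    W.a₄ - s * W.a₃ + 2 * r * W.a₂ - (t + r * s) * W.a₁ + 3 * r ^ 2 - 2 * s * t := by
  simp [ch, variableChange_a₄]

lemma ch_a₆ : (ch r s t • W).a₆ =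
    W.a₆ + r * W.a₄ + r ^ 2 * W.a₂ + r ^ 3 - t * W.a₃ - t ^ 2 - r * t * W.a₁ := by
  simp [ch, variableChange_a₆]

lemma ch_negY (x y : K) :
    (ch r s t • W).toAffine.negY (x - r) (y - t - s * (x - r)) =
      W.toAffine.negY x y - t - s * (x - r) := by
  simp only [Affine.negY, ch_a₁, ch_a₃]
  ring

lemma ch_equation (x y : K) (h : W.toAffine.Equation x y) :
    (ch r s t • W).toAffine.Equation (x - r) (y - t - s * (x - r)) := by
  rw [Affine.equation_iff] at h ⊢
  simp only [ch_a₁, ch_a₂, ch_a₃, ch_a₄, ch_a₆]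
  linear_combination h

variable [W.IsElliptic]

lemma ch_nonsingular (x y : K) (h : W.toAffine.Nonsingular x y) :
    (ch r s t • W).toAffine.Nonsingular (x - r) (y - t - s * (x - r)) :=
  Affine.equation_iff_nonsingular.1 (ch_equation W r s t x y h.left)

/-- The map on points of a change of variables. -/
def chPt : W.toAffine.Point → (ch r s t • W).toAffine.Point
  | .zero => .zero
  | .some x y h => .some _ _ (ch_nonsingular W r s t x y h)

variable [DecidableEq K]

lemma chPt_add (P Q : W.toAffine.Point) :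
    chPt W r s t (P + Q) = chPt W r s t P + chPt W r s t Q := by
  match P, Q with
  | .zero, Q => simp [← Affine.Point.zero_def, chPt]
  | P, .zero => simp [← Affine.Point.zero_def, chPt]
  | .some x₁ y₁ h₁, .some x₂ y₂ h₂ =>
    by_cases hxy : x₁ = x₂ ∧ y₁ = W.toAffine.negY x₂ y₂
    · rw [Affine.Point.add_of_Y_eq hxy.1 hxy.2]
      simp only [chPt]
      rw [Affine.Point.add_of_Y_eq (by rw [hxy.1]) (by rw [ch_negY, hxy.1, hxy.2])]
      rfl
    · have hxy' : ¬(x₁ - r = x₂ - r ∧ y₁ - t - s * (x₁ - r) =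
          (ch r s t • W).toAffine.negY (x₂ - r) (y₂ - t - s * (x₂ - r))) := by
        rintro ⟨hx, hy⟩
        have hx' : x₁ = x₂ := sub_left_inj.1 hx
        rw [ch_negY, hx'] at hy
        exact hxy ⟨hx', by linear_combination hy⟩
      rw [Affine.Point.add_some hxy]
      simp only [chPt]
      rw [Affine.Point.add_some hxy']
      have hl : (ch r s t • W).toAffine.slope (x₁ - r) (x₂ - r) (y₁ - t - s * (x₁ - r))
          (y₂ - t - s * (x₂ - r)) = W.toAffine.slope x₁ x₂ y₁ y₂ - s := by
        by_cases hx : x₁ = x₂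
        · subst hx
          have hy : y₁ ≠ W.toAffine.negY x₁ y₂ := fun h => hxy ⟨rfl, h⟩
          have hy' := fun h => hxy' ⟨rfl, h⟩
          rw [Affine.slope_of_Y_ne rfl hy, Affine.slope_of_Y_ne rfl hy']
          have hyy := Affine.Y_eq_of_Y_ne h₁.left h₂.left rfl hy
          subst hyy
          have hd : y₁ - W.toAffine.negY x₁ y₁ ≠ 0 := sub_ne_zero.2 hy
          have hd' : y₁ - t - s * (x₁ - r) -
              (ch r s t • W).toAffine.negY (x₁ - r) (y₁ - t - s * (x₁ - r)) =
              y₁ - W.toAffine.negY x₁ y₁ := by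
            rw [ch_negY]; ring
          rw [hd']
          field_simp
          simp only [Affine.negY, ch_a₁, ch_a₂, ch_a₄]
          ring
        · have hx' : x₁ - r ≠ x₂ - r := fun h => hx (sub_left_inj.1 h)
          rw [Affine.slope_of_X_ne hx, Affine.slope_of_X_ne hx']
          have hd : x₁ - x₂ ≠ 0 := sub_ne_zero.2 hx
          rw [show x₁ - r - (x₂ - r) = x₁ - x₂ by ring]
          field_simp
          ring
      simp only [Affine.Point.some.injEq]
      rw [hl]
      constructor
      · simp only [Affine.addX, ch_a₁, ch_a₂]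
        ring
      · simp only [Affine.addY, Affine.negAddY, Affine.addX, Affine.negY, ch_a₁, ch_a₂, ch_a₃]
        ring

/-- The change of variables as an additive map. -/
def chHom : W.toAffine.Point →+ (ch r s t • W).toAffine.Point where
  toFun := chPt W r s t
  map_zero' := rfl
  map_add' := chPt_add W r s t

/-- Over an algebraically closed field a singular cubic with `c₄ = 0` is `y² = x³`. -/
lemma exists_cusp_form {k : Type u} [Field k] [IsAlgClosed k] (V : WeierstrassCurve k)
    (hΔ : V.Δ = 0) (hc : V.c₄ = 0) :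
    ∃ r s t : k, (ch r s t • V).a₁ = 0 ∧ (ch r s t • V).a₂ = 0 ∧ (ch r s t • V).a₃ = 0 ∧
      (ch r s t • V).a₄ = 0 ∧ (ch r s t • V).a₆ = 0 := by
  by_cases h2 : (2 : k) = 0
  · have ha1 : V.a₁ = 0 := by
      have h : V.a₁ ^ 4 = 0 := by
        have := hc
        simp only [WeierstrassCurve.c₄, WeierstrassCurve.b₂, WeierstrassCurve.b₄] at this
        linear_combination this - (4 * V.a₁ ^ 2 * V.a₂ + 8 * V.a₂ ^ 2 - 24 * V.a₄
          - 12 * V.a₁ * V.a₃) * h2
      exact eq_zero_of_pow_eq_zero h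
    have ha3 : V.a₃ = 0 := by
      have h : V.a₃ ^ 4 = 0 := by
        have := hΔ
        simp only [WeierstrassCurve.Δ, WeierstrassCurve.b₂, WeierstrassCurve.b₄,
          WeierstrassCurve.b₆, WeierstrassCurve.b₈, ha1] at this
        linear_combination this + (14 * V.a₃ ^ 4 + 108 * V.a₃ ^ 2 * V.a₆ + 216 * V.a₆ ^ 2
          + 32 * V.a₂ ^ 3 * V.a₆ + 8 * V.a₂ ^ 3 * V.a₃ ^ 2 - 8 * V.a₂ ^ 2 * V.a₄ ^ 2
          + 32 * V.a₄ ^ 3 - 36 * V.a₂ * V.a₄ * V.a₃ ^ 2 - 144 * V.a₂ * V.a₄ * V.a₆) * h2
      exact eq_zero_of_pow_eq_zero h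
    obtain ⟨r, hr⟩ := IsAlgClosed.exists_pow_nat_eq V.a₄ two_pos
    obtain ⟨s, hs⟩ := IsAlgClosed.exists_pow_nat_eq (V.a₂ + 3 * r) two_pos
    obtain ⟨t, ht⟩ := IsAlgClosed.exists_pow_nat_eq
      (V.a₆ + r * V.a₄ + r ^ 2 * V.a₂ + r ^ 3) two_pos
    refine ⟨r, s, t, ?_, ?_, ?_, ?_, ?_⟩
    · rw [ch_a₁, ha1]; linear_combination s * h2
    · rw [ch_a₂, ha1]; linear_combination -hs
    · rw [ch_a₃, ha1, ha3]; linear_combination t * h2
    · rw [ch_a₄, ha1, ha3]; linear_combination -hr + (r * V.a₂ + 2 * r ^ 2 - s * t) * h2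
    · rw [ch_a₆, ha1, ha3]; linear_combination -ht
  · obtain ⟨r, hb2, hb4, hb6⟩ : ∃ r : k, V.b₂ + 12 * r = 0 ∧
        V.b₄ + r * V.b₂ + 6 * r ^ 2 = 0 ∧
        V.b₆ + 2 * r * V.b₄ + r ^ 2 * V.b₂ + 4 * r ^ 3 = 0 := by
      by_cases h3 : (3 : k) = 0
      · have hb2 : V.b₂ = 0 := by
          have h : V.b₂ ^ 2 = 0 := by
            have := hc
            simp only [WeierstrassCurve.c₄] at this
            linear_combination this + 8 * V.b₄ * h3
          exact eq_zero_of_pow_eq_zero h
        have hb4 : V.b₄ = 0 := by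
          have h : (8 : k) * V.b₄ ^ 3 = 0 := by
            have := hΔ
            simp only [WeierstrassCurve.Δ, hb2] at this
            linear_combination -this - 9 * V.b₆ ^ 2 * h3
          have h8 : (8 : k) ≠ 0 := by
            rw [show (8 : k) = 2 ^ 3 by norm_num]; exact pow_ne_zero 3 h2
          exact eq_zero_of_pow_eq_zero ((mul_eq_zero.1 h).resolve_left h8)
        have h4 : (4 : k) ≠ 0 := by
          rw [show (4 : k) = 2 ^ 2 by norm_num]; exact pow_ne_zero 2 h2
        obtain ⟨r, hr⟩ := IsAlgClosed.exists_pow_nat_eq (-V.b₆ / 4) three_pos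
        refine ⟨r, ?_, ?_, ?_⟩
        · rw [hb2]; linear_combination 4 * r * h3
        · rw [hb2, hb4]; linear_combination 2 * r ^ 2 * h3
        · rw [hb2, hb4, hr]; field_simp; ring
      · have h12 : (12 : k) ≠ 0 := by
          rw [show (12 : k) = 2 ^ 2 * 3 by norm_num]
          exact mul_ne_zero (pow_ne_zero 2 h2) h3
        let r : k := -V.b₂ / 12
        have hb2 : V.b₂ + 12 * r = 0 := by simp only [r]; field_simp; ring
        let V' : WeierstrassCurve k := ch r 0 0 • V
        have e2 : V'.b₂ = 0 := by simp [V', ch, variableChange_b₂, hb2]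
        have e4 : V'.b₄ = 0 := by
          have h : V'.c₄ = 0 := by simp [V', ch, variableChange_c₄, hc]
          have h24 : (24 : k) ≠ 0 := by
            rw [show (24 : k) = 2 * 12 by norm_num]; exact mul_ne_zero h2 h12
          simp only [WeierstrassCurve.c₄, e2] at h
          refine (mul_eq_zero.1 (?_ : (24 : k) * V'.b₄ = 0)).resolve_left h24
          linear_combination -h
        have e6 : V'.b₆ = 0 := by
          have h : V'.Δ = 0 := by simp [V', ch, variableChange_Δ, hΔ]
          simp only [WeierstrassCurve.Δ, e2, e4] at h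
          have h27 : (27 : k) ≠ 0 := by
            rw [show (27 : k) = 3 ^ 3 by norm_num]; exact pow_ne_zero 3 h3
          refine eq_zero_of_pow_eq_zero (n := 2) ?_
          refine (mul_eq_zero.1 (?_ : (27 : k) * V'.b₆ ^ 2 = 0)).resolve_left h27
          linear_combination -h
        refine ⟨r, hb2, ?_, ?_⟩
        · simpa [V', ch, variableChange_b₄] using e4
        · simpa [V', ch, variableChange_b₆] using e6
    let s : k := -V.a₁ / 2
    let t : k := -(V.a₃ + r * V.a₁) / 2
    have h1 : V.a₁ + 2 * s = 0 := by simp only [s]; field_simp; ring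
    have h3' : V.a₃ + r * V.a₁ + 2 * t = 0 := by simp only [t]; field_simp; ring
    have h4 : (4 : k) ≠ 0 := by
      rw [show (4 : k) = 2 ^ 2 by norm_num]; exact pow_ne_zero 2 h2
    simp only [WeierstrassCurve.b₂, WeierstrassCurve.b₄, WeierstrassCurve.b₆] at hb2 hb4 hb6
    refine ⟨r, s, t, ?_, ?_, ?_, ?_, ?_⟩
    · rw [ch_a₁]; exact h1
    · rw [ch_a₂]
      refine (mul_eq_zero.1 (?_ : (4 : k) * _ = 0)).resolve_left h4
      linear_combination hb2 - (V.a₁ + 2 * s) * h1
    · rw [ch_a₃]; exact h3'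
    · rw [ch_a₄]
      refine (mul_eq_zero.1 (?_ : (2 : k) * _ = 0)).resolve_left h2
      linear_combination hb4 - (V.a₃ + r * V.a₁ + 2 * t) * h1 - 2 * 0 * h3'
    · rw [ch_a₆]
      refine (mul_eq_zero.1 (?_ : (4 : k) * _ = 0)).resolve_left h4
      linear_combination hb6 - (V.a₃ + r * V.a₁ + 2 * t) * h3'

end Groth.Agent.EllTors
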