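import Groth.Agent.Lib.EllTors.Change
import Groth.Agent.Lib.EllTors.Additive

/-! A point of order at least five prime to the residue characteristic makes a cuspidal Weierstrass
equation non-minimal. -/

universe u

namespace Groth.Agent.EllTors

open WeierstrassCurve

variable {K : Type u} [Field K] [DecidableEq K] {Γ : Type*} [LinearOrderedCommGroupWithZero Γ]
  {v : Valuation K Γ} {W : WeierstrassCurve K}

lemma small_of_quad {a l : K} (ha : v a < 1) (h : v (l ^ 2 + a * l) < 1) : v l < 1 := by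
  by_contra hl
  rw [not_lt] at hl
  have h1 : v (a * l) < v (l ^ 2) := by
    rw [map_mul, map_pow, pow_two]
    exact mul_lt_mul_of_pos_right (ha.trans_le hl) (zero_lt_one.trans_le hl)
  rw [v.map_add_eq_of_lt_left h1, map_pow] at h
  exact h.not_ge (one_le_pow₀ hl)

/-- Every `n`-torsion point is singular modulo the maximal ideal. -/
lemma coords_small (hW : Cusp v W) {n : ℕ} (hn : v (n : K) = 1) {x y : K}
    (h : W.toAffine.Nonsingular x y) (hP : n • (Affine.Point.some _ _ h) = 0) :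
    v x < 1 ∧ v y < 1 :=
  coords_small_of_not_good hW h.left (not_good_of_nsmul_eq_zero hW h hn hP)

/-- A change of variables with small parameters keeps the coefficients small. -/
lemma cusp_ch (hW : Cusp v W) {r s t : K} (hr : v r < 1) (hs : v s < 1) (ht : v t < 1) :
    Cusp v (ch r s t • W) := by
  have h1 : (0 : Γ) < 1 := zero_lt_one
  have h2 : v (2 : K) ≤ 1 := by exact_mod_cast nat_le_one 2
  have h3 : v (3 : K) ≤ 1 := by exact_mod_cast nat_le_one 3
  have m : ∀ {a b : K}, v a ≤ 1 → v b < 1 → v (a * b) < 1 := fun ha hb => by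
    rw [mul_comm]; exact mul_small h1 hb ha
  have p : ∀ {b : K}, v b < 1 → ∀ {n : ℕ}, n ≠ 0 → v (b ^ n) < 1 := fun hb _ hn => by
    rw [map_pow]; exact pow_lt_one₀ zero_le hb hn
  have sub : ∀ {a b : K}, v a < 1 → v b < 1 → v (a - b) < 1 := fun ha hb => v.map_sub_lt ha hb
  constructor
  · rw [ch_a₁]; exact add_small hW.a₁ (m h2 hs)
  · rw [ch_a₂]
    exact sub (add_small (sub hW.a₂ (m hs.le hW.a₁)) (m h3 hr)) (p hs two_ne_zero)
  · rw [ch_a₃]; exact add_small (add_small hW.a₃ (m hr.le hW.a₁)) (m h2 ht)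
  · rw [ch_a₄]
    refine sub (add_small (sub (add_small (sub hW.a₄ (m hs.le hW.a₃))
      (m (mul_le' h2 hr.le) hW.a₂)) (m ?_ hW.a₁)) (m h3 (p hr two_ne_zero)))
      (m (mul_le' h2 hs.le) ht)
    exact (add_small ht (m hr.le hs)).le
  · rw [ch_a₆]
    exact sub (sub (sub (add_small (add_small (add_small hW.a₆ (m hr.le hW.a₄))
      (m (p hr two_ne_zero).le hW.a₂)) (p hr three_ne_zero)) (m ht.le hW.a₃))
      (p ht two_ne_zero)) (m (mul_le' hr.le ht.le) hW.a₁)

lemma two_mem (hW : Cusp v W) [W.IsElliptic] {n : ℕ} (hn5 : 4 < n) (hn : v (n : K) = 1)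
    (ha4 : W.a₄ = 0) (ha6 : W.a₆ = 0) {h0 : W.toAffine.Nonsingular 0 0}
    (hord : addOrderOf (Affine.Point.some _ _ h0) = n) :
    ∃ e : K, v e < 1 ∧ W.a₃ = e * W.a₂ ∧ v (e - W.a₁) < 1 ∧ v W.a₂ < v (e - W.a₁) := by
  set P : W.toAffine.Point := .some _ _ h0 with hP
  have hne : ∀ m : ℕ, 0 < m → m < n → m • P ≠ 0 := fun m hm hmn h => by
    have hle := Nat.le_of_dvd hm (addOrderOf_dvd_of_nsmul_eq_zero h)
    omega
  have hn0 : n • P = 0 := hord ▸ addOrderOf_nsmul_eq_zero P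
  have small : ∀ {x y : K} {h : W.toAffine.Nonsingular x y} (m : ℕ),
      m • P = .some _ _ h → v x < 1 ∧ v y < 1 := by
    intro x y h m hm
    refine coords_small hW hn h ?_
    rw [← hm, ← mul_nsmul, mul_nsmul', hn0, smul_zero]
  -- `2 P`
  have ha3 : W.a₃ ≠ 0 := by
    intro h3
    refine hne 2 two_pos (by omega) ?_
    rw [two_nsmul, hP, Affine.Point.add_self_of_Y_eq (by simp [Affine.negY, h3])]
  have hy : (0 : K) ≠ W.toAffine.negY 0 0 := by
    simp [Affine.negY, eq_comm (a := (0 : K)), ha3]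
  have hl0 : W.toAffine.slope 0 0 0 0 = 0 := by
    rw [Affine.slope_of_Y_ne rfl hy]; simp [ha4]
  obtain ⟨h2', h2P⟩ : ∃ h : W.toAffine.Nonsingular (-W.a₂) (W.a₁ * W.a₂ - W.a₃),
      2 • P = .some _ _ h := by
    have := Affine.Point.add_self_of_Y_ne (h₁ := h0) hy
    simp only [hl0] at this
    have e1 : W.toAffine.addX 0 0 0 = -W.a₂ := by simp [Affine.addX]
    have e2 : W.toAffine.addY 0 0 0 0 = W.a₁ * W.a₂ - W.a₃ := by
      simp [Affine.addY, Affine.negAddY, Affine.addX, Affine.negY]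
    have hh := Affine.nonsingular_add h0 h0 (fun h => hy h.2)
    rw [hl0, e1, e2] at hh
    refine ⟨hh, ?_⟩
    rw [two_nsmul, hP, this]
    simp only [Affine.Point.some.injEq]
    exact ⟨e1, e2⟩
  -- `3 P`
  have ha2 : W.a₂ ≠ 0 := by
    intro h2
    have hxr : (2 • P).xRep = P.xRep := by
      rw [h2P, hP, Affine.Point.xRep_some, Affine.Point.xRep_some, h2, neg_zero]
    rcases Affine.Point.eq_or_eq_neg_of_xRep_eq_xRep hxr with h | h
    · refine hne 1 one_pos (by omega) ?_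
      rw [two_nsmul] at h
      rw [one_nsmul]
      exact add_left_cancel (a := P) (by rw [add_zero]; exact h)
    · refine hne 3 three_pos (by omega) ?_
      rw [succ_nsmul, h, neg_add_cancel]
  have hx2 : -W.a₂ ≠ (0 : K) := neg_ne_zero.2 ha2
  set e := W.a₃ / W.a₂ with he
  have ha3e : W.a₃ = e * W.a₂ := by rw [he, div_mul_cancel₀ _ ha2]
  have hl1 : W.toAffine.slope (-W.a₂) 0 (W.a₁ * W.a₂ - W.a₃) 0 = e - W.a₁ := by
    rw [Affine.slope_of_X_ne hx2, he]; field_simp; ring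
  obtain ⟨h3', h3P⟩ : ∃ h : W.toAffine.Nonsingular (e * (e - W.a₁))
      (-e ^ 2 * (e - W.a₁) - e * W.a₂), 3 • P = .some _ _ h := by
    have hxy : ¬(-W.a₂ = 0 ∧ W.a₁ * W.a₂ - W.a₃ = W.toAffine.negY 0 0) := fun h => hx2 h.1
    have e1 : W.toAffine.addX (-W.a₂) 0 (e - W.a₁) = e * (e - W.a₁) := by
      simp only [Affine.addX]; ring
    have e2 : W.toAffine.addY (-W.a₂) 0 (W.a₁ * W.a₂ - W.a₃) (e - W.a₁) =
        -e ^ 2 * (e - W.a₁) - e * W.a₂ := by
      simp only [Affine.addY, Affine.negAddY, Affine.addX, Affine.negY, ha3e]; ring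
    have hh := Affine.nonsingular_add h2' h0 hxy
    rw [hl1, e1, e2] at hh
    refine ⟨hh, ?_⟩
    rw [succ_nsmul, h2P, hP, Affine.Point.add_some hxy]
    simp only [Affine.Point.some.injEq, hl1]
    exact ⟨e1, e2⟩
  have hx3s := (small 3 h3P).1
  have hem : v e < 1 := by
    refine small_of_quad (a := -W.a₁) (by rw [v.map_neg]; exact hW.a₁) ?_
    convert hx3s using 2; ring
  have hd : v (e - W.a₁) < 1 := v.map_sub_lt hem hW.a₁
  have hx3 : e * (e - W.a₁) ≠ 0 := by
    intro h3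
    have hxr : (3 • P).xRep = P.xRep := by
      rw [h3P, hP, Affine.Point.xRep_some, Affine.Point.xRep_some, h3]
    rcases Affine.Point.eq_or_eq_neg_of_xRep_eq_xRep hxr with h | h
    · refine hne 2 two_pos (by omega) ?_
      rw [succ_nsmul] at h
      exact add_right_cancel (b := P) (by rw [zero_add]; exact h)
    · refine hne 4 four_pos (by omega) ?_
      rw [succ_nsmul, h, neg_add_cancel]
  obtain ⟨he0, hd0⟩ := mul_ne_zero_iff.1 hx3
  -- `4 P`
  set k := -e - W.a₂ / (e - W.a₁) with hk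
  have hl2 : W.toAffine.slope (e * (e - W.a₁)) 0 (-e ^ 2 * (e - W.a₁) - e * W.a₂) 0 = k := by
    rw [Affine.slope_of_X_ne hx3, hk]; field_simp; ring
  have hxy : ¬(e * (e - W.a₁) = 0 ∧
      -e ^ 2 * (e - W.a₁) - e * W.a₂ = W.toAffine.negY 0 0) := fun h => hx3 h.1
  have h4 : 4 • P = .some _ _ (Affine.nonsingular_add h3' h0 hxy) := by
    rw [succ_nsmul, h3P, hP, Affine.Point.add_some hxy]
  have hx4 := (small 4 h4).1
  rw [hl2] at hx4
  have hkm : v k < 1 := by
    refine small_of_quad (a := W.a₁) hW.a₁ ?_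
    have := add_small (add_small hx4 hW.a₂) hx3s
    convert this using 2
    simp only [Affine.addX]; ring
  have hq : v (W.a₂ / (e - W.a₁)) < 1 := by
    rw [show W.a₂ / (e - W.a₁) = -k - e by rw [hk]; ring]
    exact v.map_sub_lt (neg_small hkm) hem
  refine ⟨e, hem, ha3e, hd, ?_⟩
  have hpos : 0 < v (e - W.a₁) := zero_lt_iff.2 (v.ne_zero_iff.2 hd0)
  rwa [map_div₀, div_lt_one₀ hpos] at hq

/-- The main step: `(a₁, a₂, a₃, a₄, a₆)` can be moved to multiples of `(π, π², π³, 0, 0)`. -/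
theorem exists_scaled (hW : Cusp v W) [W.IsElliptic] {π : K} (hπ0 : π ≠ 0)
    (hmax : ∀ x : K, v x < 1 → v x ≤ v π) {n : ℕ} (hn5 : 4 < n) (hn : v (n : K) = 1)
    {P : W.toAffine.Point} (hord : addOrderOf P = n) :
    ∃ C : VariableChange K, v (C • W).a₁ ≤ 1 ∧ v (C • W).a₂ ≤ 1 ∧ v (C • W).a₃ ≤ 1 ∧
      v (C • W).a₄ ≤ 1 ∧ v (C • W).a₆ ≤ 1 ∧ (C • W).Δ = π⁻¹ ^ 12 * W.Δ := by
  rcases hPe : P with _ | ⟨x₀, y₀, h⟩
  · subst hPe
    rw [← Affine.Point.zero_def, addOrderOf_zero] at hord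
    omega
  subst hPe
  have hn0 : n • (Affine.Point.some _ _ h) = 0 := hord ▸ addOrderOf_nsmul_eq_zero _
  obtain ⟨hx, hy⟩ := coords_small hW hn h hn0
  -- move `P` to the origin
  set W₁ := ch x₀ 0 y₀ • W with hW₁
  have hW₁c : Cusp v W₁ := cusp_ch hW hx (by simp) hy
  have : W₁.IsElliptic := by rw [hW₁]; infer_instance
  have h00 : W₁.toAffine.Nonsingular 0 0 := by
    simpa using ch_nonsingular W x₀ 0 y₀ x₀ y₀ h
  have hord₁ : addOrderOf (Affine.Point.some _ _ h00) = n := by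
    have hinj : Function.Injective (chHom W x₀ 0 y₀) := by
      rw [injective_iff_map_eq_zero]
      rintro (_ | ⟨a, b, hab⟩) h1
      · rfl
      · exact absurd h1 (Affine.Point.some_ne_zero _)
    rw [← hord, ← addOrderOf_injective _ hinj]
    congr 1
    show _ = chPt W x₀ 0 y₀ (.some _ _ h)
    simp only [chPt, Affine.Point.some.injEq]
    constructor <;> ring
  -- make the tangent horizontal
  have ha6₁ : W₁.a₆ = 0 := by
    have := h00.left
    rwa [Affine.equation_zero] at this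
  have ha3₁ : W₁.a₃ ≠ 0 := by
    intro h3
    have h2 : 2 • (Affine.Point.some _ _ h00) = 0 := by
      rw [two_nsmul, Affine.Point.add_self_of_Y_eq (by simp [Affine.negY, h3])]
    have := Nat.le_of_dvd two_pos (addOrderOf_dvd_of_nsmul_eq_zero h2)
    omega
  set l := W₁.a₄ / W₁.a₃ with hl
  have hy00 : (0 : K) ≠ W₁.toAffine.negY 0 0 := by
    simp [Affine.negY, eq_comm (a := (0 : K)), ha3₁]
  have hslope : W₁.toAffine.slope 0 0 0 0 = l := by
    rw [Affine.slope_of_Y_ne rfl hy00, hl]; simp [Affine.negY]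
  have hlm : v l < 1 := by
    have h2e : 2 • (Affine.Point.some _ _ h00) =
        .some _ _ (Affine.nonsingular_add h00 h00 (fun h => hy00 h.2)) := by
      rw [two_nsmul, Affine.Point.add_self_of_Y_ne hy00]
    have hn1 : n • (Affine.Point.some _ _ h00) = 0 := hord₁ ▸ addOrderOf_nsmul_eq_zero _
    have hx2 := (coords_small hW₁c hn (Affine.nonsingular_add h00 h00 (fun h => hy00 h.2)) (by
      rw [← h2e, ← mul_nsmul, mul_nsmul', hn1, smul_zero])).1
    rw [hslope] at hx2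
    refine small_of_quad (a := W₁.a₁) hW₁c.a₁ ?_
    have := add_small hx2 hW₁c.a₂
    convert this using 2
    simp [Affine.addX]
  set W₂ := ch 0 l 0 • W₁ with hW₂
  have hW₂c : Cusp v W₂ := cusp_ch hW₁c (by simp) hlm (by simp)
  have : W₂.IsElliptic := by rw [hW₂]; infer_instance
  have ha4₂ : W₂.a₄ = 0 := by
    rw [hW₂, ch_a₄, hl]; field_simp; ring
  have ha6₂ : W₂.a₆ = 0 := by rw [hW₂, ch_a₆, ha6₁]; ring
  have h00₂ : W₂.toAffine.Nonsingular 0 0 := by
    simpa using ch_nonsingular W₁ 0 l 0 0 0 h00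
  have hord₂ : addOrderOf (Affine.Point.some _ _ h00₂) = n := by
    have hinj : Function.Injective (chHom W₁ 0 l 0) := by
      rw [injective_iff_map_eq_zero]
      rintro (_ | ⟨a, b, hab⟩) h1
      · rfl
      · exact absurd h1 (Affine.Point.some_ne_zero _)
    rw [← hord₁, ← addOrderOf_injective _ hinj]
    congr 1
    show _ = chPt W₁ 0 l 0 (.some _ _ h00)
    simp only [chPt, Affine.Point.some.injEq]
    constructor <;> ring
  obtain ⟨e, he, ha3, hd, hlt⟩ := two_mem hW₂c hn5 hn ha4₂ ha6₂ hord₂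
  refine ⟨⟨Units.mk0 π hπ0, 0, 0, 0⟩ * (ch 0 l 0 * ch x₀ 0 y₀), ?_⟩
  have hpos : 0 < v π := zero_lt_iff.2 (v.ne_zero_iff.2 hπ0)
  have h1 : v W₂.a₁ ≤ v π := hmax _ hW₂c.a₁
  have h2 : v W₂.a₂ ≤ v π ^ 2 := by
    have hq : v (W₂.a₂ / π) < 1 := by
      rw [map_div₀, div_lt_one₀ hpos]; exact hlt.trans_le (hmax _ hd)
    have := hmax _ hq
    rw [map_div₀, div_le_iff₀ hpos] at this
    rwa [pow_two]
  have h3 : v W₂.a₃ ≤ v π ^ 3 := by
    rw [ha3, map_mul, pow_succ']
    exact mul_le_mul' (hmax _ he) h2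
  rw [mul_smul, mul_smul, ← hW₁, ← hW₂]
  have q : ∀ (a : K) (i : ℕ), v a ≤ v π ^ i → v (π⁻¹ ^ i * a) ≤ 1 := by
    intro a i hai
    rw [map_mul, map_pow, map_inv₀, inv_pow]
    exact inv_mul_le_one_of_le₀ hai zero_le
  refine ⟨?_, ?_, ?_, ?_, ?_, ?_⟩
  · simpa [variableChange_a₁] using q _ 1 (by simpa using h1)
  · simpa [variableChange_a₂] using q _ 2 h2
  · simpa [variableChange_a₃] using q _ 3 h3
  · simp [variableChange_a₄, ha4₂]
  · simp [variableChange_a₆, ha6₂]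
  · simp [variableChange_Δ, hW₂, hW₁, ch]

end Groth.Agent.EllTors
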